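import Mathlib
import Groth.Agent.S14359
import Groth.Agent.S7125

/-! Elements with reduced principal quotient in a two-dimensional normal local domain. -/

set_option autoImplicit false
universe u

namespace Groth.Agent.SqFreeLib

open IsLocalRing
open scoped Pointwise

variable {R : Type u} [CommRing R] [IsDomain R] [IsNoetherianRing R]

/-- The set of height one primes containing `f`. -/
def supp (f : R) : Set (Ideal R) := {P | P.IsPrime ∧ P.height = 1 ∧ f ∈ P}

theorem eq_of_le {P Q : Ideal R} (hP : P.IsPrime) (hQ : Q.IsPrime) (h1 : Q.height = 1)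
    (hP0 : P ≠ ⊥) (h : P ≤ Q) : P = Q := by
  by_contra hne
  have := Ideal.height_strict_mono_of_isPrime (lt_of_le_of_ne h hne)
  rw [h1] at this
  exact hP0 ((Ideal.height_eq_zero_iff_eq_bot).1 (ENat.lt_one_iff_eq_zero.1 this))

theorem finite_supp {f : R} (hf : f ≠ 0) : (supp f).Finite := by
  refine (Ideal.finite_minimalPrimes_of_isNoetherianRing R (Ideal.span {f})).subset ?_
  rintro P ⟨hP, h1, hfP⟩
  refine ⟨⟨hP, (Ideal.span_singleton_le_iff_mem _).2 hfP⟩, fun Q hQ hle => ?_⟩
  have hQ0 : Q ≠ ⊥ := fun e => hf (by simpa [e] using hQ.2 (Ideal.mem_span_singleton_self f))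
  exact (eq_of_le hQ.1 hP h1 hQ0 hle).ge

theorem exists_ass_le {f a : R} (ha : a ∉ Ideal.span {f}) :
    ∃ P ∈ associatedPrimes R (R ⧸ Ideal.span {f}), ∀ r, r * a ∈ Ideal.span {f} → r ∈ P := by
  obtain ⟨P, hP, hle⟩ := exists_le_isAssociatedPrime_of_isNoetherianRing R (Ideal.Quotient.mk (Ideal.span {f}) a)
    (fun h => ha (Ideal.Quotient.eq_zero_iff_mem.1 h))
  refine ⟨P, hP, fun r hr => hle ?_⟩
  rw [Submodule.mem_colon_singleton, Submodule.mem_bot]
  show Ideal.Quotient.mk _ (r * a) = 0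
  exact Ideal.Quotient.eq_zero_iff_mem.2 hr

variable [IsIntegrallyClosed R]

theorem mem_supp_of_ass {f : R} (hf : f ≠ 0) {P : Ideal R}
    (hP : P ∈ associatedPrimes R (R ⧸ Ideal.span {f})) : P ∈ supp f := by
  refine ⟨hP.isPrime, S14359.result R f hf P hP, ?_⟩
  obtain ⟨-, x, hx⟩ := isAssociatedPrime_iff.1 hP
  obtain ⟨x, rfl⟩ := Ideal.Quotient.mk_surjective x
  rw [hx, Submodule.mem_colon_singleton, Submodule.mem_bot]
  show Ideal.Quotient.mk _ (f * x) = 0
  exact Ideal.Quotient.eq_zero_iff_mem.2 (Ideal.mul_mem_right _ _ (Ideal.mem_span_singleton_self f))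

variable [IsLocalRing R]

theorem exists_avoid (hnm : ∀ P : Ideal R, P.height = 1 → ¬ P.IsMaximal) {J : Ideal R} {f y : R} (hf : f ≠ 0) (hfJ : f ∈ J)
    (hy0 : ∀ P ∈ supp f, y ∉ P) :
    ∃ h ∈ J, ∀ P ∈ supp f, ∀ [P.IsPrime], algebraMap R (Localization.AtPrime P) (f + y * h) ∉
      maximalIdeal (Localization.AtPrime P) • J.map (algebraMap R (Localization.AtPrime P)) := by
  classical
  let ι := {P : PrimeSpectrum R // P.asIdeal ∈ supp f}
  haveI : Finite ι := by
    haveI := (finite_supp hf).to_subtype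
    exact Finite.of_injective (fun P => (⟨P.1.asIdeal, P.2⟩ : supp f))
      fun P Q h => Subtype.ext (PrimeSpectrum.ext (congrArg Subtype.val h))
  let φ (P : ι) : R →+* Localization.AtPrime P.1.asIdeal := algebraMap R _
  let N (P : ι) : Ideal (Localization.AtPrime P.1.asIdeal) := maximalIdeal (Localization.AtPrime P.1.asIdeal) • J.map (φ P)
  let H (P : ι) : Submodule R J := Submodule.comap J.subtype ((N P).comap (φ P))
  have hinf : ∀ P, ¬ (H P).toAddSubgroup.FiniteIndex := by
    intro P hfin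
    haveI := P.1.isPrime
    have hJ0 : J.map (φ P) ≠ ⊥ := fun e => hf <| IsLocalization.injective (Localization.AtPrime P.1.asIdeal)
      P.1.asIdeal.primeCompl_le_nonZeroDivisors (by
        have := Ideal.mem_map_of_mem (φ P) hfJ
        rw [e, Ideal.mem_bot] at this
        rw [map_zero]; exact this)
    obtain ⟨h1, h1J, h1N⟩ : ∃ h1 ∈ J, φ P h1 ∉ N P := by
      by_contra hc
      push Not at hc
      exact hJ0 (le_bot_iff.1 (Submodule.le_of_le_smul_of_le_jacobson_bot (IsNoetherian.noetherian _)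
        (maximalIdeal_le_jacobson _) (Ideal.map_le_iff_le_comap.2 fun h hh => Submodule.mem_sup_right (hc h hh))))
    haveI : Finite (J ⧸ (H P).toAddSubgroup) := AddSubgroup.finite_quotient_of_finiteIndex
    haveI : Finite (J ⧸ H P) := ‹_›
    let g : R →ₗ[R] (J ⧸ H P) := (H P).mkQ ∘ₗ LinearMap.toSpanSingleton R J ⟨h1, h1J⟩
    have hker : ∀ r, g r = 0 → r ∈ P.1.asIdeal := by
      intro r hr
      by_contra hrP
      have hu : IsUnit (φ P r) := IsLocalization.map_units (Localization.AtPrime P.1.asIdeal) (⟨r, hrP⟩ : P.1.asIdeal.primeCompl)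
      have hr' : φ P (r * h1) ∈ N P := by
        have := (Submodule.Quotient.mk_eq_zero _).1 hr
        exact this
      rw [map_mul, Ideal.unit_mul_mem_iff_mem _ hu] at hr'
      exact h1N hr'
    haveI : Finite (R ⧸ LinearMap.ker g) := Finite.of_equiv _ g.quotKerEquivRange.symm.toEquiv
    haveI : Finite (R ⧸ P.1.asIdeal) := Finite.of_surjective (Submodule.factor (p := LinearMap.ker g) (p' := P.1.asIdeal) (fun r hr => hker r (LinearMap.mem_ker.1 hr)))
      (Submodule.factor_surjective _)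
    have hmax : P.1.asIdeal.IsMaximal :=
      Ideal.Quotient.maximal_of_isField _ (Finite.isField_of_domain _)
    exact hnm _ P.2.2.1 hmax
  by_contra hc
  push Not at hc
  have hbad : ∀ h : J, ∃ P : ι, φ P (f + y * h) ∈ N P := fun h => by
    obtain ⟨P, hP, hPp, hmem⟩ := hc h h.2
    exact ⟨⟨⟨P, hPp⟩, hP⟩, hmem⟩
  let S : Finset ι := (Set.toFinite {P : ι | ∃ h : J, φ P (f + y * h) ∈ N P}).toFinset
  have hS : ∀ P ∈ S, ∃ h : J, φ P (f + y * h) ∈ N P := fun P hP => by simpa [S] using hP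
  choose! g hg using hS
  have hcov : ⋃ P ∈ S, g P +ᵥ ((H P).toAddSubgroup : Set J) = Set.univ := by
    refine Set.eq_univ_of_forall fun h => ?_
    obtain ⟨P, hP⟩ := hbad h
    have hPS : P ∈ S := by rw [Set.Finite.mem_toFinset]; exact ⟨h, hP⟩
    refine Set.mem_iUnion₂.2 ⟨P, hPS, ?_⟩
    rw [Set.mem_vadd_set_iff_neg_vadd_mem]
    show φ P ((-g P + h : J) : R) ∈ N P
    haveI := P.1.isPrime
    have hu : IsUnit (φ P y) := IsLocalization.map_units (Localization.AtPrime P.1.asIdeal) (⟨y, hy0 _ P.2⟩ : P.1.asIdeal.primeCompl)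
    rw [← Ideal.unit_mul_mem_iff_mem _ hu, ← map_mul]
    have := sub_mem hP (hg P hPS)
    rw [← map_sub] at this
    convert this using 2
    push_cast
    ring
  obtain ⟨P, -, hP⟩ := AddSubgroup.exists_finiteIndex_of_leftCoset_cover hcov
  exact hinf P hP

theorem span_eq_of_not_mem {P : Ideal R} [P.IsPrime] (hP : P.height = 1) {J : Ideal R} {g : R} (hg : g ∈ J)
    (h : algebraMap R (Localization.AtPrime P) g ∉
      maximalIdeal (Localization.AtPrime P) • J.map (algebraMap R (Localization.AtPrime P))) :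
    J.map (algebraMap R (Localization.AtPrime P)) = Ideal.span {algebraMap R (Localization.AtPrime P) g} := by
  haveI : IsDomain (Localization.AtPrime P) :=
    IsLocalization.isDomain_localization P.primeCompl_le_nonZeroDivisors
  haveI : IsDiscreteValuationRing (Localization.AtPrime P) := S7125.isDVR_of_height_one P hP
  obtain ⟨j, hj⟩ := (IsPrincipalIdealRing.principal (J.map (algebraMap R (Localization.AtPrime P)))).principal
  rw [Ideal.submodule_span_eq] at hj
  have hgm := Ideal.mem_map_of_mem (algebraMap R (Localization.AtPrime P)) hg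
  rw [hj] at h hgm ⊢
  obtain ⟨c, hc⟩ := Ideal.mem_span_singleton'.1 hgm
  have hu : IsUnit c := by
    by_contra hcu
    refine h ?_
    rw [← hc, smul_eq_mul]
    exact Ideal.mul_mem_mul ((mem_maximalIdeal c).2 hcu) (Ideal.mem_span_singleton_self j)
  rw [← hc, Ideal.span_singleton_mul_left_unit hu]

theorem step (hnm : ∀ P : Ideal R, P.height = 1 → ¬ P.IsMaximal) {f y : R} (hf : f ≠ 0) (hy : y ∈ maximalIdeal R)
    (hfy : f ∉ Ideal.span {y}) (hy0 : ∀ P ∈ supp f, y ∉ P) (hnr : ¬ IsReduced (R ⧸ Ideal.span {f})) :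
    ∃ f', f' - f ∈ Ideal.span {y} ∧ supp f ⊂ supp f' := by
  obtain ⟨a, ha, k, hak⟩ : ∃ a, a ∉ Ideal.span {f} ∧ ∃ k, a ^ k ∈ Ideal.span {f} := by
    by_contra hc
    push Not at hc
    refine hnr ((Ideal.isRadical_iff_quotient_reduced _).1 fun a ⟨k, hak⟩ => ?_)
    by_contra ha
    exact hc a ha k hak
  obtain ⟨Q, hQ, hQa⟩ := exists_ass_le ha
  have hQs := mem_supp_of_ass hf hQ
  haveI := hQ.isPrime
  obtain ⟨-, b, hb⟩ := isAssociatedPrime_iff.1 hQ
  obtain ⟨b, rfl⟩ := Ideal.Quotient.mk_surjective b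
  have hQb : ∀ r, r ∈ Q ↔ r * b ∈ Ideal.span {f} := fun r => by
    rw [hb, Submodule.mem_colon_singleton, Submodule.mem_bot, ← Ideal.Quotient.eq_zero_iff_mem]
    rfl
  let J : Ideal R := (Ideal.span {f}).colon (Q : Set R)
  have hJ : ∀ h, h ∈ J ↔ ∀ q ∈ Q, h * q ∈ Ideal.span {f} := fun h => Submodule.mem_colon
  have hfJ : f ∈ J := (hJ f).2 fun q _ => Ideal.mul_mem_right _ _ (Ideal.mem_span_singleton_self f)
  have hbJ : b ∈ J := (hJ b).2 fun q hq => by rw [mul_comm]; exact (hQb q).1 hq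
  obtain ⟨h, hhJ, havoid⟩ := exists_avoid hnm hf hfJ hy0
  set f' := f + y * h with hf'
  have hf'J : f' ∈ J := J.add_mem hfJ (J.mul_mem_left _ hhJ)
  have hcong : f' - f ∈ Ideal.span {y} := by
    rw [hf', add_sub_cancel_left]
    exact Ideal.mul_mem_right _ _ (Ideal.mem_span_singleton_self y)
  have hf'0 : f' ≠ 0 := fun e => hfy (by simpa [e] using hcong)
  -- the colon ideal lies in `Q`
  have hJQ : J ≤ Q := by
    intro g hg
    by_contra hgQ
    have haQ : a ∈ Q := by
      refine hQ.isPrime.mem_of_pow_mem k ?_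
      exact (hQb _).2 (Ideal.mul_mem_right _ _ hak)
    have : g * a ∈ Ideal.span {f} := (hJ g).1 hg a haQ
    exact hgQ (hQa g this)
  have hsub : supp f ⊆ supp f' := by
    rintro P ⟨hP, h1, hfP⟩
    refine ⟨hP, h1, ?_⟩
    by_cases hQP : Q ≤ P
    · exact hQP (hJQ hf'J)
    · obtain ⟨q, hq, hqP⟩ := Set.not_subset.1 hQP
      exact (hP.mem_or_mem (Ideal.span_singleton_le_iff_mem (I := P) |>.2 hfP ((hJ f').1 hf'J q hq))).resolve_right hqP
  refine ⟨f', hcong, hsub, fun hsup => ?_⟩
  have hdvd : f ∈ Ideal.span {f'} := by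
    by_contra hnd
    obtain ⟨P, hP, hPle⟩ := exists_ass_le hnd
    have hPs := hsup (mem_supp_of_ass hf'0 hP)
    haveI := hP.isPrime
    have hspan := span_eq_of_not_mem hPs.2.1 hf'J (havoid P hPs)
    have hfm := Ideal.mem_map_of_mem (algebraMap R (Localization.AtPrime P)) hfJ
    rw [hspan, ← Set.image_singleton, ← Ideal.map_span,
      IsLocalization.algebraMap_mem_map_algebraMap_iff P.primeCompl] at hfm
    obtain ⟨s, hs, hs'⟩ := hfm
    exact hs (hPle s hs')
  obtain ⟨g, hg⟩ := Ideal.mem_span_singleton'.1 hdvd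
  by_cases hgu : IsUnit g
  · -- impossible at `Q`
    have hspan := span_eq_of_not_mem hQs.2.1 hf'J (havoid Q hQs)
    have hbm := Ideal.mem_map_of_mem (algebraMap R (Localization.AtPrime Q)) hbJ
    rw [hspan, ← Set.image_singleton, ← Ideal.map_span,
      IsLocalization.algebraMap_mem_map_algebraMap_iff Q.primeCompl] at hbm
    obtain ⟨s, hs, hs'⟩ := hbm
    refine hs ((hQb s).2 ?_)
    rwa [← hg, Ideal.span_singleton_mul_left_unit hgu]
  · have h1 : IsUnit (1 - g) := isUnit_one_sub_self_of_mem_nonunits g hgu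
    refine hfy ?_
    have h2 : f' ∈ Ideal.span {y} := by
      rw [← Ideal.unit_mul_mem_iff_mem _ h1]
      convert hcong using 1
      rw [sub_mul, one_mul, hg]
    rw [← hg]
    exact Ideal.mul_mem_left _ _ h2

omit [IsIntegrallyClosed R] in
theorem exists_chain {f y : R} (S : Finset (Ideal R)) (hS : ∀ P ∈ S, P.IsPrime ∧ P.height = 1 ∧ f ∈ P ∧ y ∉ P)
    (hy : y ∈ maximalIdeal R) :
    ∃ p : LTSeries (Submodule (R ⧸ Ideal.span {f, y}) (R ⧸ Ideal.span {f, y})),
      p.length = S.card ∧ p.head = (S.inf id).map (Ideal.Quotient.mk (Ideal.span {f, y})) := by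
  classical
  induction S using Finset.induction_on with
  | empty =>
    exact ⟨RelSeries.singleton _ ((Ideal.map (Ideal.Quotient.mk _) (⊤ : Ideal R))), rfl, by
      rw [Finset.inf_empty]; rfl⟩
  | insert P T hPT ih =>
    obtain ⟨p, hp, hhead⟩ := ih fun Q hQ => hS Q (Finset.mem_insert_of_mem hQ)
    have hlt : ((insert P T).inf id).map (Ideal.Quotient.mk (Ideal.span {f, y})) < p.head := by
      rw [hhead]
      refine lt_of_le_of_ne (Ideal.map_mono (Finset.inf_mono (Finset.subset_insert _ _))) fun heq => ?_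
      set A := (insert P T).inf id with hA
      set B := T.inf id with hB
      have hfA : f ∈ A := by
        rw [hA, Submodule.mem_finsetInf]
        exact fun Q hQ => (hS Q hQ).2.2.1
      have hle : B ≤ A ⊔ Ideal.span {y} • B := by
        intro b hb
        have : Ideal.Quotient.mk (Ideal.span {f, y}) b ∈ A.map (Ideal.Quotient.mk (Ideal.span {f, y})) := by
          rw [heq]; exact Ideal.mem_map_of_mem _ hb
        obtain ⟨a, ha, hab⟩ := (Ideal.mem_map_iff_of_surjective _ Ideal.Quotient.mk_surjective).1 this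
        obtain ⟨u, v, huv⟩ := Ideal.mem_span_pair.1 (Ideal.Quotient.eq.1 hab)
        have hAB : A ≤ B := Finset.inf_mono (Finset.subset_insert _ _)
        have haB : a ∈ B := hAB ha
        have hfB : f ∈ B := hAB hfA
        have hyv : y * v ∈ B := by
          have e : y * v = a - b - u * f := by linear_combination huv
          rw [e]
          exact B.sub_mem (B.sub_mem haB hb) (B.mul_mem_left _ hfB)
        have hv : v ∈ B := by
          rw [hB, Submodule.mem_finsetInf] at hyv ⊢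
          exact fun Q hQ => ((hS Q (Finset.mem_insert_of_mem hQ)).1.mem_or_mem (hyv Q hQ)).resolve_left
            (hS Q (Finset.mem_insert_of_mem hQ)).2.2.2
        have e : b = (a - u * f) + y * (-v) := by linear_combination huv
        rw [e]
        exact Submodule.add_mem_sup (A.sub_mem ha (A.mul_mem_left _ hfA))
          (Submodule.smul_mem_smul (Ideal.mem_span_singleton_self y) (B.neg_mem hv))
      have hBA : B ≤ A := Submodule.le_of_le_smul_of_le_jacobson_bot (IsNoetherian.noetherian _)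
        ((Ideal.span_singleton_le_iff_mem _).2 hy |>.trans (maximalIdeal_le_jacobson _)) hle
      obtain ⟨hPp, hP1, -, -⟩ := hS P (Finset.mem_insert_self _ _)
      have hBP : B ≤ P := hBA.trans (Finset.inf_le (f := id) (Finset.mem_insert_self P T))
      obtain ⟨Q, hQ, hQP⟩ := (Ideal.IsPrime.inf_le' hPp).1 hBP
      obtain ⟨hQp, hQ1, -, -⟩ := hS Q (Finset.mem_insert_of_mem hQ)
      exact hPT (eq_of_le hQp hPp hP1 (fun e => by simp [e] at hQ1) hQP ▸ hQ)
    exact ⟨p.cons _ hlt, by simp [hp, Finset.card_insert_of_notMem hPT], by simp⟩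

omit [IsIntegrallyClosed R] in
theorem card_le_length {f y : R} {I : Ideal R} (hI : I = Ideal.span {f, y}) (S : Finset (Ideal R))
    (hS : ∀ P ∈ S, P.IsPrime ∧ P.height = 1 ∧ f ∈ P ∧ y ∉ P) (hy : y ∈ maximalIdeal R) :
    (S.card : ℕ∞) ≤ Module.length (R ⧸ I) (R ⧸ I) := by
  subst hI
  obtain ⟨p, hp, -⟩ := exists_chain S hS hy
  have h1 := Order.LTSeries.length_le_krullDim p
  rw [← Module.coe_length, ← WithBot.coe_natCast, WithBot.coe_le_coe, hp] at h1
  exact h1

theorem exists_reduced (hdim : ringKrullDim R = 2) (s : Finset (Ideal R))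
    (hs : ∀ p ∈ s, p.IsPrime ∧ p.height = 1) :
    ∃ f : R, f ≠ 0 ∧ (∀ p ∈ s, f ∈ p) ∧ IsReduced (R ⧸ Ideal.span {f}) := by
  classical
  have hne : ∀ p ∈ s, ∃ x ∈ p, x ≠ (0 : R) := fun p hp => Submodule.exists_mem_ne_zero_of_ne_bot
    fun e => by have := (hs p hp).2; simp [e] at this
  choose! x hx hx0 using hne
  set f₀ := ∏ p ∈ s, x p
  have hf₀ : f₀ ≠ 0 := Finset.prod_ne_zero_iff.2 hx0
  have hf₀s : ∀ p ∈ s, f₀ ∈ p := fun p hp => Ideal.mem_of_dvd _ (Finset.dvd_prod_of_mem x hp) (hx p hp)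
  have hm2 : (maximalIdeal R).height = 2 := by
    have := IsLocalRing.maximalIdeal_height_eq_ringKrullDim (R := R)
    rw [hdim] at this
    exact WithBot.coe_eq_coe.1 (this.trans rfl)
  have hnm : ∀ P : Ideal R, P.height = 1 → ¬ maximalIdeal R ≤ P := fun P h1 hle => by
    have := (Ideal.height_mono hle).trans h1.le
    rw [hm2] at this
    exact absurd this (by decide)
  obtain ⟨y, hym, hy0, hyS⟩ : ∃ y ∈ maximalIdeal R, y ≠ 0 ∧ ∀ P ∈ supp f₀, y ∉ P := by
    by_contra hc
    push Not at hc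
    let T : Finset (Ideal R) := insert ⊥ (finite_supp hf₀).toFinset
    have hcov : (maximalIdeal R : Set R) ⊆ ⋃ P ∈ (T : Set (Ideal R)), (P : Set R) := by
      intro y hy
      by_cases h0 : y = 0
      · exact Set.mem_biUnion (Finset.mem_insert_self _ _) (by simp [h0])
      · obtain ⟨P, hP, hyP⟩ := hc y hy h0
        exact Set.mem_biUnion (Finset.mem_insert_of_mem ((finite_supp hf₀).mem_toFinset.2 hP)) hyP
    obtain ⟨P, hP, hle⟩ := (Ideal.subset_union_prime ⊥ ⊥ (fun P hP _ _ => by
      rcases Finset.mem_insert.1 hP with rfl | hP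
      · exact Ideal.isPrime_bot
      · exact ((finite_supp hf₀).mem_toFinset.1 hP).1)).1 hcov
    rcases Finset.mem_insert.1 hP with rfl | hP
    · rw [le_bot_iff] at hle
      simp [hle] at hm2
    · exact hnm P ((finite_supp hf₀).mem_toFinset.1 hP).2.1 hle
  have hfy : f₀ ∉ Ideal.span {y} := by
    intro h
    obtain ⟨P, hP⟩ := Ideal.nonempty_minimalPrimes (I := Ideal.span {y})
      (fun e => (Ideal.span_singleton_eq_top.1 e |> fun hu => (mem_maximalIdeal y).1 hym hu))
    have h1 : P.height = 1 := by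
      refine le_antisymm (Ideal.height_le_one_of_isPrincipal_of_mem_minimalPrimes _ _ hP) (ENat.one_le_iff_ne_zero.2 ?_)
      haveI := hP.1.1
      rw [Ne, Ideal.height_eq_zero_iff_eq_bot]
      exact fun e => hy0 (by simpa [e] using hP.1.2 (Ideal.mem_span_singleton_self y))
    exact hyS P ⟨hP.1.1, h1, hP.1.2 h⟩ (hP.1.2 (Ideal.mem_span_singleton_self y))
  -- invariants of the congruence class
  have hclass : ∀ g, g - f₀ ∈ Ideal.span {y} → g ≠ 0 ∧ g ∉ Ideal.span {y} ∧ ∀ P ∈ supp g, y ∉ P := by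
    intro g hg
    have hgy : g ∉ Ideal.span {y} := fun h => hfy (by simpa using sub_mem h hg)
    refine ⟨fun e => hgy (by simp [e]), hgy, fun P hP hyP => hyS P ⟨hP.1, hP.2.1, ?_⟩ hyP⟩
    simpa using P.sub_mem hP.2.2 ((Ideal.span_singleton_le_iff_mem (I := P)).2 hyP hg)
  set I := Ideal.span {f₀, y} with hI
  haveI : IsArtinianRing (R ⧸ I) := by
    rw [isArtinianRing_iff_krullDimLE_zero, Ring.krullDimLE_zero_iff]
    intro P hP
    haveI := hP.comap (Ideal.Quotient.mk I)
    have hle : I ≤ P.comap (Ideal.Quotient.mk I) := fun r hr => by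
      rw [Ideal.mem_comap, Ideal.Quotient.eq_zero_iff_mem.2 hr]
      exact P.zero_mem
    replace hle : f₀ ∈ P.comap (Ideal.Quotient.mk I) ∧ y ∈ P.comap (Ideal.Quotient.mk I) :=
      ⟨hle (Ideal.subset_span (Set.mem_insert _ _)), hle (Ideal.subset_span (Set.mem_insert_of_mem _ rfl))⟩
    have hmax : (P.comap (Ideal.Quotient.mk I)).IsMaximal := by
      suffices h : P.comap (Ideal.Quotient.mk I) = maximalIdeal R by rw [h]; infer_instance
      by_contra hne
      have hlt := Ideal.height_strict_mono_of_isPrime (lt_of_le_of_ne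
        (IsLocalRing.le_maximalIdeal (Ideal.IsPrime.ne_top inferInstance)) hne)
      rw [hm2] at hlt
      have h0 : (P.comap (Ideal.Quotient.mk I)).height ≠ 0 := by
        rw [Ne, Ideal.height_eq_zero_iff_eq_bot]
        exact fun e => hy0 (by simpa [e] using hle.2)
      have h1 : (P.comap (Ideal.Quotient.mk I)).height = 1 :=
        le_antisymm (Order.le_of_lt_succ (by simpa [one_add_one_eq_two] using hlt)) (ENat.one_le_iff_ne_zero.2 h0)
      exact hyS _ ⟨inferInstance, h1, hle.1⟩ hle.2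
    exact Ideal.map_comap_of_surjective _ Ideal.Quotient.mk_surjective P ▸
      (Ideal.map_eq_top_or_isMaximal_of_surjective _ Ideal.Quotient.mk_surjective hmax).resolve_left
        (by rw [Ideal.map_comap_of_surjective _ Ideal.Quotient.mk_surjective]; exact hP.ne_top)
  obtain ⟨N, hN⟩ := ENat.ne_top_iff_exists.1 (Module.length_ne_top (R := R ⧸ I) (M := R ⧸ I))
  have hbound : ∀ g, g - f₀ ∈ Ideal.span {y} → (supp g).ncard ≤ N := by
    intro g hg
    obtain ⟨hg0, -, hgS⟩ := hclass g hg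
    have hIg : Ideal.span {g, y} = I := by
      obtain ⟨c, hc⟩ := Ideal.mem_span_singleton'.1 hg
      rw [hI, show g = f₀ + c * y by linear_combination -hc]
      exact Ideal.span_pair_add_mul_right ..
    have h1 := card_le_length (f := g) (y := y) hIg.symm (finite_supp hg0).toFinset
      (fun P hP => by
        obtain ⟨h1, h2, h3⟩ := (finite_supp hg0).mem_toFinset.1 hP
        exact ⟨h1, h2, h3, hgS P ⟨h1, h2, h3⟩⟩) hym
    rw [← hN, ← Set.ncard_eq_toFinset_card _ (finite_supp hg0), Nat.cast_le] at h1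
    exact h1
  suffices h : ∀ k g, g - f₀ ∈ Ideal.span {y} → (∀ p ∈ s, g ∈ p) → N - (supp g).ncard = k →
      ∃ f : R, f ≠ 0 ∧ (∀ p ∈ s, f ∈ p) ∧ IsReduced (R ⧸ Ideal.span {f}) from
    h _ f₀ (by simp) hf₀s rfl
  intro k
  induction k using Nat.strong_induction_on with
  | _ k ih =>
    intro g hg hgs hk
    obtain ⟨hg0, hgy, hgS⟩ := hclass g hg
    by_cases hr : IsReduced (R ⧸ Ideal.span {g})
    · exact ⟨g, hg0, hgs, hr⟩
    obtain ⟨g', hg', hss⟩ := step (fun P h1 hm => hnm P h1 (IsLocalRing.eq_maximalIdeal hm).ge) hg0 hym hgy hgS hr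
    have hg'' : g' - f₀ ∈ Ideal.span {y} := by simpa using add_mem hg' hg
    have hlt := Set.ncard_lt_ncard hss (finite_supp (hclass g' hg'').1)
    have := hbound g' hg''
    exact ih (N - (supp g').ncard) (by omega) g' hg''
      (fun p hp => (hss.1 ⟨(hs p hp).1, (hs p hp).2, hgs p hp⟩).2.2) rfl

end Groth.Agent.SqFreeLib
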