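import Mathlib
import Groth.Agent.SqFreeLib.Basic
import Groth.Agent.CatLib.Basic
import Groth.Agent.S5100

/-! Reduced principal quotients in catenary normal local domains of any dimension. -/

set_option autoImplicit false
universe u

namespace Groth.Agent.SqFreeLib

open IsLocalRing

variable {R : Type u} [CommRing R] [IsDomain R] [IsNoetherianRing R]

theorem exists_supp_le {f : R} (hf : f ≠ 0) {z : Ideal R} [z.IsPrime] (hfz : f ∈ z) :
    ∃ P ∈ supp f, P ≤ z := by
  obtain ⟨P, hP, hle⟩ := Ideal.exists_minimalPrimes_le ((Ideal.span_singleton_le_iff_mem (I := z)).2 hfz)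
  haveI := hP.1.1
  refine ⟨P, ⟨hP.1.1, le_antisymm (Ideal.height_le_one_of_isPrincipal_of_mem_minimalPrimes _ _ hP)
    (ENat.one_le_iff_ne_zero.2 ?_), hP.1.2 (Ideal.mem_span_singleton_self f)⟩, hle⟩
  rw [Ne, Ideal.height_eq_zero_iff_eq_bot]
  exact fun e => hf (by simpa [e] using hP.1.2 (Ideal.mem_span_singleton_self f))

variable [IsLocalRing R]

theorem mem_radical_of_supp {f g : R} (hf : f ≠ 0) (h : supp f ⊆ supp g) : g ∈ (Ideal.span {f}).radical := by
  rw [Ideal.radical_eq_sInf, Ideal.mem_sInf]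
  intro z hz
  haveI := hz.2
  obtain ⟨P, hP, hle⟩ := exists_supp_le hf ((Ideal.span_singleton_le_iff_mem (I := z)).1 hz.1)
  exact hle (h hP).2.2

theorem height_le_two (hc : CAlg.IsCatenary R) {P Q : PrimeSpectrum R} (hP : P.asIdeal.height = 1) (hPQ : P ⋖ Q) :
    Q.asIdeal.height ≤ 2 := by
  have H := CatLib.isCatenary_iff_coheight.1 hc
  let bot : PrimeSpectrum R := ⟨⊥, Ideal.isPrime_bot⟩
  have hbP : bot ⋖ P := by
    refine ⟨lt_of_le_of_ne (show (⊥ : Ideal R) ≤ P.asIdeal from bot_le) ?_, fun z hz hzP => ?_⟩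
    · intro e
      have : P.asIdeal = ⊥ := congrArg PrimeSpectrum.asIdeal e.symm
      rw [this] at hP
      simp at hP
    · exact hzP.ne (PrimeSpectrum.ext (eq_of_le z.isPrime P.isPrime hP
        (fun e => hz.ne (PrimeSpectrum.ext e.symm)) hzP.le))
  have hbot : Order.coheight bot = Order.coheight Q + 2 := by
    rw [H _ _ hbP, H _ _ hPQ, add_assoc, one_add_one_eq_two]
  have hdim : ringKrullDim R = Order.coheight bot := by
    rw [← CatLib.ringKrullDim_quotient_eq_coheight]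
    exact (ringKrullDim_eq_of_ringEquiv (RingEquiv.quotientBot R)).symm
  obtain ⟨c, hc'⟩ := ENat.ne_top_iff_exists.1 (CatLib.coheight_ne_top Q)
  have hfin : Order.height Q ≠ ⊤ := by
    rw [← PrimeSpectrum.height_eq_orderHeight]
    exact Ideal.height_ne_top Q.isPrime.ne_top
  obtain ⟨m, hm⟩ := ENat.ne_top_iff_exists.1 hfin
  obtain ⟨l, hl, hll⟩ := Order.exists_series_of_height_eq_coe Q hm.symm
  obtain ⟨l', hl', hll'⟩ := Order.exists_series_of_coheight_eq_coe Q hc'.symm
  have h := Order.LTSeries.length_le_krullDim (l.smash l' (hl.trans hl'.symm))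
  rw [RelSeries.smash_length, hll, hll', show Order.krullDim (PrimeSpectrum R) = ringKrullDim R from rfl,
    hdim, hbot, ← hc', ← WithBot.coe_natCast, WithBot.coe_le_coe] at h
  rw [PrimeSpectrum.height_eq_orderHeight Q, ← hm]
  norm_cast at h ⊢
  omega

theorem covBy_of_minimal {P Q : Ideal R} [P.IsPrime] {y : R} (hy : y ∉ P)
    (hQ : Q ∈ (P ⊔ Ideal.span {y}).minimalPrimes) :
    (⟨P, inferInstance⟩ : PrimeSpectrum R) ⋖ ⟨Q, hQ.1.1⟩ := by
  have hPQ : P ≤ Q := le_sup_left.trans hQ.1.2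
  have hyQ : y ∈ Q := hQ.1.2 (Submodule.mem_sup_right (Ideal.mem_span_singleton_self y))
  refine ⟨lt_of_le_of_ne hPQ fun e => hy ((show P = Q from congrArg PrimeSpectrum.asIdeal e).symm ▸ hyQ), fun z hz hzQ => ?_⟩
  haveI := z.isPrime
  let π := Ideal.Quotient.mk P
  have hker : RingHom.ker π ≤ z.asIdeal := by rw [Ideal.mk_ker]; exact hz.le
  have hkerQ : RingHom.ker π ≤ Q := by rw [Ideal.mk_ker]; exact hPQ
  haveI := hQ.1.1
  haveI hzp : (z.asIdeal.map π).IsPrime := Ideal.map_isPrime_of_surjective Ideal.Quotient.mk_surjective hker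
  haveI hQp : (Q.map π).IsPrime := Ideal.map_isPrime_of_surjective Ideal.Quotient.mk_surjective hkerQ
  have hcz : (z.asIdeal.map π).comap π = z.asIdeal := by
    rw [Ideal.comap_map_of_surjective' _ Ideal.Quotient.mk_surjective, sup_eq_left.2 hker]
  have hcQ : (Q.map π).comap π = Q := by
    rw [Ideal.comap_map_of_surjective' _ Ideal.Quotient.mk_surjective, sup_eq_left.2 hkerQ]
  have hmin : Q.map π ∈ (Ideal.span {π y}).minimalPrimes := by
    refine ⟨⟨hQp, (Ideal.span_singleton_le_iff_mem _).2 (Ideal.mem_map_of_mem π hyQ)⟩, fun w hw hwQ => ?_⟩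
    haveI := hw.1
    have h1 : Q ≤ w.comap π := hQ.2 ⟨inferInstance, sup_le
      (fun a ha => by rw [Ideal.mem_comap, Ideal.Quotient.eq_zero_iff_mem.2 ha]; exact w.zero_mem)
      ((Ideal.span_singleton_le_iff_mem (I := w.comap π)).2 (hw.2 (Ideal.mem_span_singleton_self _)))⟩
      ((Ideal.comap_mono hwQ).trans hcQ.le)
    exact Ideal.map_le_iff_le_comap.2 h1
  have hle := Ideal.height_le_one_of_isPrincipal_of_mem_minimalPrimes _ _ hmin
  have hlt : z.asIdeal.map π < Q.map π := lt_of_le_of_ne (Ideal.map_mono hzQ.le) fun e =>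
    hzQ.ne (PrimeSpectrum.ext (hcz.symm.trans ((congrArg (Ideal.comap π) e).trans hcQ)))
  have h0 : (z.asIdeal.map π).height = 0 := by
    have := (Ideal.height_strict_mono_of_isPrime hlt).trans_le hle
    exact ENat.lt_one_iff_eq_zero.1 this
  haveI : IsDomain (R ⧸ P) := Ideal.Quotient.isDomain P
  rw [Ideal.height_eq_zero_iff_eq_bot] at h0
  rw [h0, ← RingHom.ker_eq_comap_bot, Ideal.mk_ker] at hcz
  exact hz.ne (PrimeSpectrum.ext hcz)

theorem exists_bound_at {f y : R} (Q : Ideal R) [Q.IsPrime] (hyQ : y ∈ Q)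
    (hQmin : Q ∈ (Ideal.span {f, y}).minimalPrimes) :
    ∃ N : ℕ, ∀ g, g - f ∈ Ideal.span {y} → ∀ S : Finset (Ideal R),
      (∀ P ∈ S, P.IsPrime ∧ P.height = 1 ∧ g ∈ P ∧ y ∉ P ∧ P ≤ Q) → S.card ≤ N := by
  classical
  let L := Localization.AtPrime Q
  let φ := algebraMap R L
  haveI : IsDomain L := IsLocalization.isDomain_localization Q.primeCompl_le_nonZeroDivisors
  haveI : IsNoetherianRing L := IsLocalization.isNoetherianRing Q.primeCompl L inferInstance
  set I := Ideal.span {φ f, φ y} with hI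
  haveI : IsArtinianRing (L ⧸ I) := by
    rw [isArtinianRing_iff_krullDimLE_zero, Ring.krullDimLE_zero_iff]
    intro P hP
    haveI := hP.comap (Ideal.Quotient.mk I)
    set W := P.comap (Ideal.Quotient.mk I) with hW
    have hle : I ≤ W := fun r hr => by
      rw [hW, Ideal.mem_comap, Ideal.Quotient.eq_zero_iff_mem.2 hr]
      exact P.zero_mem
    have hWQ : W.comap φ ≤ Q := fun r hr => by
      by_contra h
      exact Ideal.IsPrime.ne_top inferInstance (Ideal.eq_top_of_isUnit_mem W hr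
        (IsLocalization.map_units L (⟨r, h⟩ : Q.primeCompl)))
    have hQW : Q ≤ W.comap φ := hQmin.2 ⟨inferInstance, Ideal.span_le.2 (Set.pair_subset_iff.2
      ⟨hle (Ideal.subset_span (Set.mem_insert _ _)), hle (Ideal.subset_span (Set.mem_insert_of_mem _ rfl))⟩)⟩ hWQ
    have hmax : W.IsMaximal := by
      suffices h : W = maximalIdeal L by rw [h]; infer_instance
      refine le_antisymm (IsLocalRing.le_maximalIdeal (Ideal.IsPrime.ne_top inferInstance)) ?_
      rw [← Localization.AtPrime.map_eq_maximalIdeal]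
      exact Ideal.map_le_iff_le_comap.2 hQW
    exact Ideal.map_comap_of_surjective _ Ideal.Quotient.mk_surjective P ▸
      (Ideal.map_eq_top_or_isMaximal_of_surjective _ Ideal.Quotient.mk_surjective hmax).resolve_left
        (by rw [hW, Ideal.map_comap_of_surjective _ Ideal.Quotient.mk_surjective]; exact hP.ne_top)
  obtain ⟨N, hN⟩ := ENat.ne_top_iff_exists.1 (Module.length_ne_top (R := L ⧸ I) (M := L ⧸ I))
  refine ⟨N, fun g hg S hS => ?_⟩
  have hdisj : ∀ P ∈ S, Disjoint (Q.primeCompl : Set R) (P : Set R) := fun P hP =>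
    Set.disjoint_left.2 fun a ha haP => ha ((hS P hP).2.2.2.2 haP)
  have hcomap : ∀ P ∈ S, (P.map φ).comap φ = P := fun P hP =>
    IsLocalization.under_map_of_isPrime_disjoint Q.primeCompl L (hS P hP).1 (hdisj P hP)
  have hinj : Set.InjOn (fun P : Ideal R => P.map φ) S := fun P hP P' hP' e => by
    rw [← hcomap P hP, ← hcomap P' hP']
    exact congrArg (Ideal.comap φ) e
  have hIg : I = Ideal.span {φ g, φ y} := by
    obtain ⟨c, hc⟩ := Ideal.mem_span_singleton'.1 hg
    rw [hI, show g = f + c * y by linear_combination -hc, map_add, map_mul]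
    exact (Ideal.span_pair_add_mul_right ..).symm
  have hym : φ y ∈ maximalIdeal L := by
    rw [← Localization.AtPrime.map_eq_maximalIdeal]
    exact Ideal.mem_map_of_mem φ hyQ
  have h1 := card_le_length hIg (S.image fun P => P.map φ) (fun P' hP' => by
    obtain ⟨P, hP, rfl⟩ := Finset.mem_image.1 hP'
    obtain ⟨hPp, hP1, hgP, hyP, -⟩ := hS P hP
    haveI hp : (P.map φ).IsPrime := IsLocalization.isPrime_of_isPrime_disjoint Q.primeCompl L P hPp (hdisj P hP)
    refine ⟨hp, ?_, Ideal.mem_map_of_mem φ hgP, fun h => hyP ?_⟩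
    · rw [← IsLocalization.height_under Q.primeCompl (P.map φ)]
      show ((P.map φ).comap φ).height = 1
      rw [hcomap P hP, hP1]
    · rw [← hcomap P hP]; exact h) hym
  rw [Finset.card_image_of_injOn hinj, ← hN, Nat.cast_le] at h1
  exact h1

variable [IsIntegrallyClosed R]

theorem exists_reduced_of_catenary (hc : CAlg.IsCatenary R)
    (hnm : ∀ P : Ideal R, P.height = 1 → ¬ P.IsMaximal) {f₀ : R} (hf₀ : f₀ ≠ 0) :
    ∃ f : R, f ≠ 0 ∧ supp f₀ ⊆ supp f ∧ IsReduced (R ⧸ Ideal.span {f}) := by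
  classical
  by_cases hfld : maximalIdeal R = ⊥
  · have hu : IsUnit f₀ := by
      by_contra h
      have := (mem_maximalIdeal f₀).2 h
      rw [hfld] at this
      exact hf₀ this
    haveI : Subsingleton (R ⧸ Ideal.span {f₀}) :=
      Ideal.Quotient.subsingleton_iff.2 (Ideal.span_singleton_eq_top.2 hu)
    exact ⟨f₀, hf₀, subset_rfl, inferInstance⟩
  obtain ⟨y, hym, hy0, hyS⟩ : ∃ y ∈ maximalIdeal R, y ≠ 0 ∧ ∀ P ∈ supp f₀, y ∉ P := by
    by_contra hc
    push Not at hc
    let T : Finset (Ideal R) := insert ⊥ (finite_supp hf₀).toFinset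
    have hcov : (maximalIdeal R : Set R) ⊆ ⋃ P ∈ (T : Set (Ideal R)), (P : Set R) := by
      intro y hy
      by_cases h0 : y = 0
      · exact Set.mem_biUnion (Finset.mem_insert_self _ _) (by simp [h0])
      · obtain ⟨P, hP, hyP⟩ := hc y hy h0
        exact Set.mem_biUnion (Finset.mem_insert_of_mem ((finite_supp hf₀).mem_toFinset.2 hP)) hyP
    obtain ⟨P, hP, hle⟩ := (Ideal.subset_union_prime ⊥ ⊥ (fun P hP _ _ => by
      rcases Finset.mem_insert.1 hP with rfl | hP
      · exact Ideal.isPrime_bot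
      · exact ((finite_supp hf₀).mem_toFinset.1 hP).1)).1 hcov
    rcases Finset.mem_insert.1 hP with rfl | hP
    · exact hfld (le_bot_iff.1 hle)
    · obtain ⟨hPp, h1, -⟩ := (finite_supp hf₀).mem_toFinset.1 hP
      refine hnm P h1 ?_
      rw [le_antisymm (IsLocalRing.le_maximalIdeal hPp.ne_top) hle]
      infer_instance
  have hfy : f₀ ∉ Ideal.span {y} := by
    intro h
    obtain ⟨z, hz⟩ := Ideal.nonempty_minimalPrimes (I := Ideal.span {y})
      (fun e => (Ideal.span_singleton_eq_top.1 e |> fun hu => (mem_maximalIdeal y).1 hym hu))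
    haveI := hz.1.1
    obtain ⟨P, hP, hPz⟩ := exists_supp_le hy0 (hz.1.2 (Ideal.mem_span_singleton_self y))
    have hzP : P = z := le_antisymm hPz (hz.2 ⟨hP.1, (Ideal.span_singleton_le_iff_mem _).2 hP.2.2⟩ hPz)
    subst hzP
    exact hyS P ⟨hP.1, hP.2.1, hz.1.2 h⟩ hP.2.2
  have hclass : ∀ g, g - f₀ ∈ Ideal.span {y} → g ≠ 0 ∧ g ∉ Ideal.span {y} ∧ ∀ P ∈ supp g, y ∉ P := by
    intro g hg
    have hgy : g ∉ Ideal.span {y} := fun h => hfy (by simpa using sub_mem h hg)
    refine ⟨fun e => hgy (by simp [e]), hgy, fun P hP hyP => hyS P ⟨hP.1, hP.2.1, ?_⟩ hyP⟩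
    simpa using P.sub_mem hP.2.2 ((Ideal.span_singleton_le_iff_mem (I := P)).2 hyP hg)
  have hQfin := Ideal.finite_minimalPrimes_of_isNoetherianRing R (Ideal.span {f₀, y})
  choose! n hn using fun Q (hQ : Q ∈ hQfin.toFinset) =>
    haveI := (hQfin.mem_toFinset.1 hQ).1.1
    exists_bound_at (f := f₀) (y := y) Q
      ((hQfin.mem_toFinset.1 hQ).1.2 (Ideal.subset_span (Set.mem_insert_of_mem _ rfl))) (hQfin.mem_toFinset.1 hQ)
  set N := ∑ Q ∈ hQfin.toFinset, n Q
  have hbound : ∀ g, g - f₀ ∈ Ideal.span {y} → (supp g).ncard ≤ N := by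
    intro g hg
    obtain ⟨hg0, -, hgS⟩ := hclass g hg
    rw [Set.ncard_eq_toFinset_card _ (finite_supp hg0)]
    set S := (finite_supp hg0).toFinset with hSdef
    have hsub : S ⊆ hQfin.toFinset.biUnion fun Q => S.filter (· ≤ Q) := by
      intro P hP
      obtain ⟨hPp, hP1, hgP⟩ := (finite_supp hg0).mem_toFinset.1 hP
      haveI := hPp
      have hne : P ⊔ Ideal.span {y} ≠ ⊤ := ne_top_of_le_ne_top (maximalIdeal.isMaximal R).ne_top
        (sup_le (IsLocalRing.le_maximalIdeal hPp.ne_top) ((Ideal.span_singleton_le_iff_mem _).2 hym))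
      obtain ⟨Q, hQ⟩ := Ideal.nonempty_minimalPrimes hne
      have hcov := covBy_of_minimal (hgS P ⟨hPp, hP1, hgP⟩) hQ
      have h2 : Q.height ≤ 2 := height_le_two (P := ⟨P, hPp⟩) (Q := ⟨Q, hQ.1.1⟩) hc hP1 hcov
      have hyQ : y ∈ Q := hQ.1.2 (Submodule.mem_sup_right (Ideal.mem_span_singleton_self y))
      have hfQ : f₀ ∈ Q := by
        simpa using Q.sub_mem (le_sup_left.trans hQ.1.2 hgP) ((Ideal.span_singleton_le_iff_mem (I := Q)).2 hyQ hg)
      haveI := hQ.1.1
      have hQmin : Q ∈ (Ideal.span {f₀, y}).minimalPrimes := by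
        refine ⟨⟨hQ.1.1, Ideal.span_le.2 (Set.pair_subset_iff.2 ⟨hfQ, hyQ⟩)⟩, fun z hz hzQ => ?_⟩
        haveI := hz.1
        by_contra hne'
        have h3 := (Ideal.height_strict_mono_of_isPrime (lt_of_le_not_ge hzQ hne')).trans_le h2
        have hfz : f₀ ∈ z := hz.2 (Ideal.subset_span (Set.mem_insert _ _))
        have hyz : y ∈ z := hz.2 (Ideal.subset_span (Set.mem_insert_of_mem _ rfl))
        obtain ⟨P', hP', hle⟩ := exists_supp_le hf₀ hfz
        haveI := hP'.1
        have h4 : P' < z := lt_of_le_of_ne hle fun e => hyS P' hP' (e.symm ▸ hyz)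
        have h5 := Ideal.height_strict_mono_of_isPrime h4
        rw [hP'.2.1] at h5
        exact absurd h3 (not_lt.2 (Order.add_one_le_of_lt h5 |>.trans' (by norm_num)))
      exact Finset.mem_biUnion.2 ⟨Q, hQfin.mem_toFinset.2 hQmin,
        Finset.mem_filter.2 ⟨hP, le_sup_left.trans hQ.1.2⟩⟩
    refine (Finset.card_le_card hsub).trans (Finset.card_biUnion_le.trans (Finset.sum_le_sum fun Q hQ => ?_))
    refine hn Q hQ g hg _ fun P hP => ?_
    obtain ⟨hP, hPQ⟩ := Finset.mem_filter.1 hP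
    obtain ⟨h1, h2, h3⟩ := (finite_supp hg0).mem_toFinset.1 hP
    exact ⟨h1, h2, h3, hgS P ⟨h1, h2, h3⟩, hPQ⟩
  suffices h : ∀ k g, g - f₀ ∈ Ideal.span {y} → supp f₀ ⊆ supp g → N - (supp g).ncard = k →
      ∃ f : R, f ≠ 0 ∧ supp f₀ ⊆ supp f ∧ IsReduced (R ⧸ Ideal.span {f}) from
    h _ f₀ (by simp) subset_rfl rfl
  intro k
  induction k using Nat.strong_induction_on with
  | _ k ih =>
    intro g hg hgs hk
    obtain ⟨hg0, hgy, hgS⟩ := hclass g hg
    by_cases hr : IsReduced (R ⧸ Ideal.span {g})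
    · exact ⟨g, hg0, hgs, hr⟩
    obtain ⟨g', hg', hss⟩ := step hnm hg0 hym hgy hgS hr
    have hg'' : g' - f₀ ∈ Ideal.span {y} := by simpa using add_mem hg' hg
    have hlt := Set.ncard_lt_ncard hss (finite_supp (hclass g' hg'').1)
    have := hbound g' hg''
    exact ih (N - (supp g').ncard) (by omega) g' hg'' (hgs.trans hss.1) rfl

theorem exists_reduced_mem_radical (hc : CAlg.IsCatenary R) {J : Ideal R} (hJ : J.IsRadical) (hJ0 : J ≠ ⊥) :
    ∃ f ∈ J, f ≠ 0 ∧ IsReduced (R ⧸ Ideal.span {f}) := by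
  classical
  by_cases hnm : ∀ P : Ideal R, P.height = 1 → ¬ P.IsMaximal
  · obtain ⟨f₀, hf₀J, hf₀⟩ := Submodule.exists_mem_ne_zero_of_ne_bot hJ0
    obtain ⟨f, hf, hsupp, hred⟩ := exists_reduced_of_catenary hc hnm hf₀
    exact ⟨f, hJ.radical ▸ Ideal.radical_mono ((Ideal.span_singleton_le_iff_mem (I := J)).2 hf₀J)
      (mem_radical_of_supp hf₀ hsupp), hf, hred⟩
  · push Not at hnm
    obtain ⟨P, hP1, hPm⟩ := hnm
    by_cases htop : J = ⊤
    · haveI : Subsingleton (R ⧸ Ideal.span {(1 : R)}) :=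
        Ideal.Quotient.subsingleton_iff.2 (Ideal.span_singleton_eq_top.2 isUnit_one)
      exact ⟨1, by simp [htop], one_ne_zero, inferInstance⟩
    have hPeq := IsLocalRing.eq_maximalIdeal hPm
    subst hPeq
    have hdim : ringKrullDim R = 1 := by
      rw [← IsLocalRing.maximalIdeal_height_eq_ringKrullDim, hP1]
      rfl
    haveI : IsDiscreteValuationRing R := S5100.isDVR_of_dim_one hdim
    obtain ⟨π, hπ⟩ := IsDiscreteValuationRing.exists_irreducible R
    have hJm : maximalIdeal R ≤ J := by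
      rw [← hJ.radical, Ideal.radical_eq_sInf]
      refine le_sInf fun z hz => ?_
      haveI := hz.2
      exact (eq_of_le hz.2 hPm.isPrime hP1 (fun e => hJ0 (le_bot_iff.1 (e ▸ hz.1)))
        (IsLocalRing.le_maximalIdeal hz.2.ne_top)).ge
    refine ⟨π, hJm ((mem_maximalIdeal π).2 hπ.not_isUnit), hπ.ne_zero, ?_⟩
    rw [← hπ.maximalIdeal_eq]
    exact (Ideal.isRadical_iff_quotient_reduced _).1 hPm.isPrime.isRadical

end Groth.Agent.SqFreeLib
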